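import Cfsg.Agent.EqLemmas
import Mathlib.FieldTheory.Finite.GaloisField
import Mathlib.FieldTheory.Galois.Basic
import Mathlib.RingTheory.LittleWedderburn
import Mathlib.Algebra.Algebra.Subalgebra.Basic
import Mathlib.LinearAlgebra.FiniteDimensional.Basic

/-! Regular linear groups: the field spanned by a normal abelian subgroup. -/

set_option autoImplicit false

namespace Cfsg.Agent.Nearfield

open Module

variable {q : ℕ} [Fact q.Prime] {V : Type*} [AddCommGroup V] [Module (ZMod q) V] [Finite V] [Nontrivial V]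
  {G : Type*} [Group G] [Finite G]

/-- The action as endomorphisms. -/
def toEnd (ρ : G →* (V ≃ₗ[ZMod q] V)) : G →* Module.End (ZMod q) V where
  toFun g := (ρ g).toLinearMap
  map_one' := by ext v; simp
  map_mul' a b := by ext v; simp

theorem toEnd_apply (ρ : G →* (V ≃ₗ[ZMod q] V)) (g : G) (v : V) : toEnd ρ g v = ρ g v := rfl

/-- A commutative set of endomorphisms stable under a transitive group has no nonzero singular element. -/
theorem eq_zero_of_apply_eq_zero (ρ : G →* (V ≃ₗ[ZMod q] V))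
    (htrans : ∀ v w : V, v ≠ 0 → w ≠ 0 → ∃ g : G, ρ g v = w)
    (E : Subalgebra (ZMod q) (Module.End (ZMod q) V)) (hcomm : ∀ x ∈ E, ∀ y ∈ E, x * y = y * x)
    (hconj : ∀ g : G, ∀ x ∈ E, toEnd ρ g * x * toEnd ρ g⁻¹ ∈ E)
    {x : Module.End (ZMod q) V} (hx : x ∈ E) {v : V} (hv : v ≠ 0) (hxv : x v = 0) : x = 0 := by
  classical
  haveI : Finite (Module.End (ZMod q) V) := Finite.of_injective (fun f : Module.End (ZMod q) V => (f : V → V))
    DFunLike.coe_injective
  let I : V → Set (Module.End (ZMod q) V) := fun w => {y | y ∈ E ∧ y w = 0}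
  have hI : ∀ a b : V, a ≠ 0 → b ≠ 0 → (I a).ncard ≤ (I b).ncard := by
    intro a b ha hb
    obtain ⟨g, hg⟩ := htrans a b ha hb
    refine Set.ncard_le_ncard_of_injOn (fun y => toEnd ρ g * y * toEnd ρ g⁻¹) ?_ ?_ (Set.toFinite _)
    · rintro y ⟨hy, hya⟩
      refine ⟨hconj g y hy, ?_⟩
      simp only [Module.End.mul_apply, toEnd_apply, ← hg]
      rw [← LinearEquiv.mul_apply, ← map_mul, inv_mul_cancel, map_one, LinearEquiv.coe_one, id, hya, map_zero]
    · intro y _ y' _ h
      have h' := congrArg (fun w => toEnd ρ g⁻¹ * w * toEnd ρ g) h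
      simp only [mul_assoc, ← map_mul, inv_mul_cancel, map_one, mul_one] at h'
      simpa [← mul_assoc, ← map_mul] using h'
  have heq : ∀ a b : V, a ≠ 0 → b ≠ 0 → I a ⊆ I b → I b ⊆ I a := fun a b ha hb h =>
    (Set.eq_of_subset_of_ncard_le h (hI b a hb ha) (Set.toFinite _)).ge
  have hP : ∀ y ∈ E, ∀ u : V, y u ≠ 0 → I (y u) ⊆ I u := by
    intro y hy u hyu
    have hu : u ≠ 0 := fun h => hyu (by rw [h, map_zero])
    refine heq u (y u) hu hyu fun s hs => ⟨hs.1, ?_⟩
    rw [← Module.End.mul_apply, hcomm s hs.1 y hy, Module.End.mul_apply, hs.2, map_zero]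
  refine LinearMap.ext fun w => ?_
  rw [LinearMap.zero_apply]
  by_contra hxw
  have hw : w ≠ 0 := fun h => hxw (by rw [h, map_zero])
  set u := v + w
  have hu : u ≠ 0 := fun h => hxw (by
    have := congrArg x h
    rwa [map_add, hxv, zero_add, map_zero] at this)
  have hxu : x u = x w := by rw [map_add, hxv, zero_add]
  have h1 : I w ⊆ I u := by
    intro s hs
    have h2 : s ∈ I (x w) := ⟨hs.1, by
      rw [← Module.End.mul_apply, hcomm s hs.1 x hx, Module.End.mul_apply, hs.2, map_zero]⟩
    rw [← hxu] at h2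
    exact hP x hx u (hxu ▸ hxw) h2
  have h2 : I w ⊆ I v := fun s hs => ⟨hs.1, by
    have := (h1 hs).2
    rwa [map_add, hs.2, add_zero] at this⟩
  exact hxw ((heq w v hw hv h2) ⟨hx, hxv⟩).2

/-- Nonzero operators separated by sandwiching eigenvalues are linearly independent. -/
theorem card_le_finrank_sq {K W ι : Type*} [Field K] [AddCommGroup W] [Module K W] [FiniteDimensional K W]
    [Fintype ι] (f : ι → (W →ₗ[K] W)) (hne : ∀ i, f i ≠ 0)
    (hsep : ∀ i j, i ≠ j → ∃ (P R : W →ₗ[K] W) (a : ι → K), (∀ k w, P (f k (R w)) = a k • f k w) ∧ a i ≠ a j) :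
    Fintype.card ι ≤ finrank K W * finrank K W := by
  classical
  have hind : LinearIndependent K f := by
    rw [linearIndependent_iff']
    intro t
    induction t using Finset.induction_on with
    | empty => simp
    | @insert i0 t hi0 ih =>
      intro g hg
      have hrest : ∀ i ∈ t, g i = 0 := by
        intro i hi
        obtain ⟨P, R, a, ha, hai⟩ := hsep i i0 (fun e => hi0 (e ▸ hi))
        have h2 : ∑ j ∈ insert i0 t, (g j * (a j - a i0)) • f j = 0 := by
          refine LinearMap.ext fun w => ?_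
          have h1 := LinearMap.congr_fun hg (R w)
          have h3 := LinearMap.congr_fun hg w
          simp only [LinearMap.sum_apply, LinearMap.smul_apply, LinearMap.zero_apply] at h1 h3 ⊢
          have h1' := congrArg P h1
          rw [map_sum, map_zero] at h1'
          have h3' := congrArg (a i0 • ·) h3
          simp only [smul_zero, Finset.smul_sum] at h3'
          calc ∑ j ∈ insert i0 t, (g j * (a j - a i0)) • f j w
              = ∑ j ∈ insert i0 t, P (g j • f j (R w)) - ∑ j ∈ insert i0 t, a i0 • g j • f j w := by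
                rw [← Finset.sum_sub_distrib]
                refine Finset.sum_congr rfl fun j _ => ?_
                rw [map_smul, ha, smul_smul, smul_smul, ← sub_smul]
                congr 1
                ring
            _ = 0 := by rw [h1', h3', sub_zero]
        rw [Finset.sum_insert hi0, sub_self, mul_zero, zero_smul, zero_add] at h2
        exact (mul_eq_zero.mp (ih _ h2 i hi)).resolve_right (sub_ne_zero.mpr hai)
      intro i hi
      rcases Finset.mem_insert.mp hi with rfl | hi
      · rw [Finset.sum_insert hi0, Finset.sum_eq_zero (fun j hj => by rw [hrest j hj, zero_smul]), add_zero] at hg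
        exact (smul_eq_zero.mp hg).resolve_right (hne _)
      · exact hrest i hi
  have hle := hind.fintype_card_le_finrank
  rwa [Module.finrank_linearMap] at hle

set_option maxHeartbeats 1000000 in
set_option synthInstance.maxHeartbeats 200000 in
/-- The field of a normal abelian subgroup, and what it forces. -/
theorem exists_degree (ρ : G →* (V ≃ₗ[ZMod q] V)) (hρ : Function.Injective ρ)
    (htrans : ∀ v w : V, v ≠ 0 → w ≠ 0 → ∃ g : G, ρ g v = w)
    (A : Subgroup G) [A.Normal] (hA : ∀ a ∈ A, ∀ b ∈ A, a * b = b * a) :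
    ∃ d m : ℕ, 0 < d ∧ 0 < m ∧ Nat.card V = (q ^ d) ^ m ∧ Nat.card A ∣ q ^ d - 1 ∧
      (Subgroup.centralizer (A : Set G)).index ∣ d ∧ IsCyclic A ∧
      (∀ M : Subgroup G, M ≤ Subgroup.centralizer (A : Set G) → (∀ u ∈ M, ∀ v ∈ M, u * v * u⁻¹ * v⁻¹ ∈ A) →
        (∀ u ∈ M, (∀ v ∈ M, u * v = v * u) → u ∈ A) → A.relIndex M ≤ m * m) ∧
      (m = 1 → (∀ a ∈ Subgroup.centralizer (A : Set G), ∀ b ∈ Subgroup.centralizer (A : Set G), a * b = b * a) ∧
        ∃ (F : Type) (_ : Field F) (_ : Fintype F) (e : V ≃+ F),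
          ∀ g : G, ∃ (a : F) (σ : F ≃+* F), ∀ v : V, e (ρ g v) = a * σ (e v)) := by
  classical
  set Φ := toEnd ρ with hΦ
  have hΦinj : Function.Injective Φ := fun a b h => hρ (LinearEquiv.ext fun v => LinearMap.congr_fun h v)
  set E : Subalgebra (ZMod q) (Module.End (ZMod q) V) := Algebra.adjoin (ZMod q) (Φ '' A) with hE
  have hgen : ∀ a ∈ A, Φ a ∈ E := fun a ha => Algebra.subset_adjoin ⟨a, ha, rfl⟩
  have hcomm : ∀ x ∈ E, ∀ y ∈ E, x * y = y * x := by
    intro x hx y hy
    refine (Algebra.commute_of_mem_adjoin_of_forall_mem_commute hy ?_).eq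
    rintro _ ⟨b, hb, rfl⟩
    refine (Algebra.commute_of_mem_adjoin_of_forall_mem_commute hx ?_).symm
    rintro _ ⟨a, ha, rfl⟩
    show Φ b * Φ a = Φ a * Φ b
    rw [← map_mul, ← map_mul, hA b hb a ha]
  let c : G → (Module.End (ZMod q) V →ₐ[ZMod q] Module.End (ZMod q) V) := fun g =>
    { toFun := fun x => Φ g * x * Φ g⁻¹
      map_one' := by rw [mul_one, ← map_mul, mul_inv_cancel, map_one]
      map_mul' := fun x y => by
        rw [show Φ g * x * Φ g⁻¹ * (Φ g * y * Φ g⁻¹) = Φ g * x * (Φ g⁻¹ * Φ g) * y * Φ g⁻¹ by simp only [mul_assoc],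
          ← map_mul, inv_mul_cancel, map_one, mul_one]
        simp only [mul_assoc]
      map_zero' := by simp
      map_add' := fun x y => by rw [mul_add, add_mul]
      commutes' := fun r => by rw [← Algebra.commutes, mul_assoc, ← map_mul, mul_inv_cancel, map_one, mul_one] }
  have hconj : ∀ g : G, ∀ x ∈ E, Φ g * x * Φ g⁻¹ ∈ E := by
    intro g x hx
    have : E ≤ E.comap (c g) := by
      rw [hE]
      refine Algebra.adjoin_le ?_
      rintro _ ⟨a, ha, rfl⟩
      show Φ g * Φ a * Φ g⁻¹ ∈ E
      rw [← map_mul, ← map_mul]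
      exact hgen _ (‹A.Normal›.conj_mem a ha g)
    exact this hx
  have hinjE : ∀ {x : Module.End (ZMod q) V}, x ∈ E → ∀ {v : V}, v ≠ 0 → x v = 0 → x = 0 :=
    fun hx _ hv hxv => eq_zero_of_apply_eq_zero ρ htrans E hcomm hconj hx hv hxv
  haveI : Finite (Module.End (ZMod q) V) := Finite.of_injective (fun f : Module.End (ZMod q) V => (f : V → V))
    DFunLike.coe_injective
  haveI : Finite E := inferInstanceAs (Finite {x // x ∈ E})
  obtain ⟨v0, hv0⟩ := exists_ne (0 : V)
  haveI : Nontrivial E := ⟨0, 1, fun h => hv0 (by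
    have := LinearMap.congr_fun (congrArg Subtype.val h) v0
    simpa using this.symm)⟩
  haveI : NoZeroDivisors E := ⟨fun {x y} h => by
    by_contra hne
    push Not at hne
    obtain ⟨v, hv⟩ : ∃ v, (y : Module.End (ZMod q) V) v ≠ 0 := by
      by_contra hc
      push Not at hc
      exact hne.2 (Subtype.ext (LinearMap.ext hc))
    exact hne.1 (Subtype.ext (hinjE x.2 hv (LinearMap.congr_fun (congrArg Subtype.val h) v)))⟩
  haveI : IsDomain E := NoZeroDivisors.to_isDomain E
  letI : CommRing E := { (inferInstance : Ring E) with mul_comm := fun x y => Subtype.ext (hcomm x x.2 y y.2) }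
  letI : Field E := (Finite.isField_of_domain E).toField
  haveI := Fintype.ofFinite E
  set d := finrank (ZMod q) E with hd
  set m := finrank E V with hm
  have hEcard : Nat.card E = q ^ d := by
    rw [Module.natCard_eq_pow_finrank (K := ZMod q) (V := E), Nat.card_zmod]
  have hVcard : Nat.card V = (q ^ d) ^ m := by
    rw [Module.natCard_eq_pow_finrank (K := E) (V := V), hEcard]
  have hd0 : 0 < d := Module.finrank_pos
  have hm0 : 0 < m := Module.finrank_pos
  -- `A` embeds in the units
  let κ : A →* E := { toFun := fun a => ⟨Φ a, hgen a a.2⟩, map_one' := Subtype.ext (map_one Φ), map_mul' := fun a b => Subtype.ext (map_mul Φ _ _) }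
  let κu : A →* Eˣ := MonoidHom.toHomUnits κ
  have hκ : Function.Injective κu := fun a b h => Subtype.ext (hΦinj (congrArg Subtype.val (congrArg Units.val h)))
  have hAdvd : Nat.card A ∣ q ^ d - 1 := by
    rw [← hEcard, ← Nat.card_units]
    exact Subgroup.card_dvd_of_injective κu hκ
  -- conjugation gives automorphisms of `E`
  let θ0 : G → (E →ₐ[ZMod q] E) := fun g => ((c g).comp E.val).codRestrict E (fun x => hconj g x x.2)
  have hθ0 : ∀ (g : G) (x : E), (θ0 g x : Module.End (ZMod q) V) = Φ g * x * Φ g⁻¹ := fun _ _ => rfl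
  have hθmul : ∀ g k : G, θ0 (g * k) = (θ0 g).comp (θ0 k) := fun g k => AlgHom.ext fun x => Subtype.ext (by
    rw [AlgHom.comp_apply, hθ0, hθ0, hθ0, mul_inv_rev, map_mul, map_mul]
    simp only [mul_assoc])
  have hθone : θ0 1 = AlgHom.id _ _ := AlgHom.ext fun x => Subtype.ext (by
    rw [hθ0, inv_one, map_one, one_mul, mul_one]; rfl)
  let θ : G →* (E ≃ₐ[ZMod q] E) :=
    { toFun := fun g => AlgEquiv.ofAlgHom (θ0 g) (θ0 g⁻¹) (by rw [← hθmul, mul_inv_cancel, hθone])
        (by rw [← hθmul, inv_mul_cancel, hθone])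
      map_one' := AlgEquiv.ext fun x => AlgHom.congr_fun hθone x
      map_mul' := fun g k => AlgEquiv.ext fun x => AlgHom.congr_fun (hθmul g k) x }
  have hker : θ.ker = Subgroup.centralizer (A : Set G) := by
    ext g
    rw [MonoidHom.mem_ker, Subgroup.mem_centralizer_iff]
    constructor
    · intro h a ha
      have h1 : Φ g * Φ a * Φ g⁻¹ = Φ a := congrArg Subtype.val (AlgEquiv.congr_fun h ⟨Φ a, hgen a ha⟩)
      rw [← map_mul, ← map_mul] at h1
      exact (mul_inv_eq_iff_eq_mul.mp (hΦinj h1)).symm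
    · intro h
      refine AlgEquiv.ext fun x => Subtype.ext ?_
      show Φ g * (x : Module.End (ZMod q) V) * Φ g⁻¹ = x
      have hc : Commute (Φ g) (x : Module.End (ZMod q) V) :=
        Algebra.commute_of_mem_adjoin_of_forall_mem_commute x.2 (by
          rintro _ ⟨a, ha, rfl⟩
          show Φ g * Φ a = Φ a * Φ g
          rw [← map_mul, ← map_mul, h a ha])
      rw [hc.eq, mul_assoc, ← map_mul, mul_inv_cancel, map_one, mul_one]
  have hidx : (Subgroup.centralizer (A : Set G)).index ∣ d := by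
    rw [← hker, Subgroup.index_ker, hd, ← IsGalois.card_aut_eq_finrank (ZMod q) E]
    exact Subgroup.card_subgroup_dvd_card _
  have hcyc : IsCyclic A := isCyclic_of_injective κu hκ
  have hbound : ∀ M : Subgroup G, M ≤ Subgroup.centralizer (A : Set G) → (∀ u ∈ M, ∀ v ∈ M, u * v * u⁻¹ * v⁻¹ ∈ A) →
      (∀ u ∈ M, (∀ v ∈ M, u * v = v * u) → u ∈ A) → A.relIndex M ≤ m * m := by
    intro M hMC hcom hcen
    have hlin : ∀ u : M, ∀ (x : E) (w : V), Φ (u : G) ((x : Module.End (ZMod q) V) w) =
        (x : Module.End (ZMod q) V) (Φ (u : G) w) := by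
      intro u x w
      have hc : Commute (Φ (u : G)) (x : Module.End (ZMod q) V) :=
        Algebra.commute_of_mem_adjoin_of_forall_mem_commute x.2 (by
          rintro _ ⟨a, ha, rfl⟩
          show Φ (u : G) * Φ a = Φ a * Φ (u : G)
          rw [← map_mul, ← map_mul, Subgroup.mem_centralizer_iff.mp (hMC u.2) a ha])
      exact LinearMap.congr_fun hc.eq w
    let L : M → (V →ₗ[E] V) := fun u =>
      { toFun := fun w => Φ (u : G) w
        map_add' := fun a b => map_add _ a b
        map_smul' := fun x w => hlin u x w }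
    have hLv : ∀ (v u : M) (w : V), L v (L u (L v⁻¹ w)) =
        (⟨Φ ((v : G) * u * (v : G)⁻¹ * (u : G)⁻¹), hgen _ (hcom v v.2 u u.2)⟩ : E) • (L u w) := by
      intro v u w
      show Φ (v : G) (Φ (u : G) (Φ ((v⁻¹ : M) : G) w)) = Φ ((v : G) * u * (v : G)⁻¹ * (u : G)⁻¹) (Φ (u : G) w)
      rw [← Module.End.mul_apply, ← Module.End.mul_apply, ← Module.End.mul_apply, ← map_mul, ← map_mul, ← map_mul,
        Subgroup.coe_inv, inv_mul_cancel_right]
    let f : M ⧸ A.subgroupOf M → (V →ₗ[E] V) := fun c => L c.out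
    let lam : M ⧸ A.subgroupOf M → M → E := fun c v =>
      ⟨Φ ((v : G) * c.out * (v : G)⁻¹ * (c.out : G)⁻¹), hgen _ (hcom v v.2 c.out c.out.2)⟩
    have hsep : ∀ i j, (∀ v, lam i v = lam j v) → i = j := by
      intro i j hij
      rw [← QuotientGroup.out_eq' i, ← QuotientGroup.out_eq' j, QuotientGroup.eq, Subgroup.mem_subgroupOf]
      refine hcen _ ((i.out⁻¹ * j.out : M)).2 fun v hv => ?_
      have h1 : v * (i.out : G) * v⁻¹ * (i.out : G)⁻¹ = v * (j.out : G) * v⁻¹ * (j.out : G)⁻¹ :=
        hΦinj (congrArg Subtype.val (hij ⟨v, hv⟩))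
      have h2 : (v * (i.out : G) * v⁻¹)⁻¹ * (v * (j.out : G) * v⁻¹) = (i.out : G)⁻¹ * (j.out : G) := by
        calc (v * (i.out : G) * v⁻¹)⁻¹ * (v * (j.out : G) * v⁻¹)
            = (i.out : G)⁻¹ * (v * (i.out : G) * v⁻¹ * (i.out : G)⁻¹)⁻¹ *
                (v * (j.out : G) * v⁻¹ * (j.out : G)⁻¹) * (j.out : G) := by group
          _ = _ := by rw [h1]; group
      show ((i.out⁻¹ * j.out : M) : G) * v = v * ((i.out⁻¹ * j.out : M) : G)
      push_cast
      conv_lhs => rw [← h2]
      group
    haveI : Fintype (M ⧸ A.subgroupOf M) := Fintype.ofFinite _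
    have hne : ∀ i, f i ≠ 0 := by
      intro i hz
      refine hv0 ?_
      have := LinearMap.congr_fun hz (Φ ((i.out : G))⁻¹ v0)
      rw [show v0 = (Φ (i.out : G)) (Φ ((i.out : G))⁻¹ v0) by
        rw [← Module.End.mul_apply, ← map_mul, mul_inv_cancel, map_one]; rfl]
      exact this
    have hle := card_le_finrank_sq (K := E) f hne (fun i j hij => by
      obtain ⟨v, hv⟩ : ∃ v, lam i v ≠ lam j v := by
        by_contra hc
        push Not at hc
        exact hij (hsep i j hc)
      exact ⟨L v, L v⁻¹, fun k => lam k v, fun k w => hLv v k.out w, hv⟩)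
    rw [← Nat.card_eq_fintype_card] at hle
    exact hle
  refine ⟨d, m, hd0, hm0, hVcard, hAdvd, hidx, hcyc, hbound, fun hm1 => ?_⟩
  -- one-dimensional case
  have hinj : Function.Injective (fun x : E => (x : Module.End (ZMod q) V) v0) := by
    intro x y h
    refine Subtype.ext (sub_eq_zero.mp (hinjE (sub_mem x.2 y.2) hv0 ?_))
    rw [LinearMap.sub_apply]; exact sub_eq_zero.mpr h
  have hbij : Function.Bijective (fun x : E => (x : Module.End (ZMod q) V) v0) :=
    hinj.bijective_of_nat_card_le (by rw [hEcard, hVcard, hm1, pow_one])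
  have hsurj : ∀ v : V, ∃ x : E, (x : Module.End (ZMod q) V) v0 = v := fun v => hbij.2 v
  refine ⟨fun a ha b hb => hρ (LinearEquiv.ext fun v => ?_), ?_⟩
  · -- elements centralizing `A` are multiplications
    have hmult : ∀ g ∈ Subgroup.centralizer (A : Set G), ∃ y : E, Φ g = y := by
      intro g hg
      obtain ⟨y, hy⟩ := hsurj (Φ g v0)
      refine ⟨y, LinearMap.ext fun w => ?_⟩
      obtain ⟨x, rfl⟩ := hsurj w
      have hfix : Φ g * x * Φ g⁻¹ = (x : Module.End (ZMod q) V) :=
        congrArg Subtype.val (AlgEquiv.congr_fun (show θ g = 1 by rw [← MonoidHom.mem_ker, hker]; exact hg) x)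
      have hgx : Φ g * (x : Module.End (ZMod q) V) = x * Φ g := by
        conv_rhs => rw [← hfix, mul_assoc, ← map_mul, inv_mul_cancel, map_one, mul_one]
      rw [← Module.End.mul_apply, hgx, Module.End.mul_apply, ← hy, ← Module.End.mul_apply, hcomm x x.2 y y.2,
        Module.End.mul_apply]
    obtain ⟨ya, hya⟩ := hmult a ha
    obtain ⟨yb, hyb⟩ := hmult b hb
    show Φ (a * b) v = Φ (b * a) v
    rw [map_mul, map_mul, hya, hyb, hcomm ya ya.2 yb yb.2]
  · let ev : E ≃+ V := AddEquiv.mk' (Equiv.ofBijective _ hbij) (fun x y => LinearMap.add_apply _ _ _)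
    haveI : Fintype (GaloisField q d) := Fintype.ofFinite _
    let ε : E ≃+* GaloisField q d := FiniteField.ringEquivOfCardEq (by
      rw [← Nat.card_eq_fintype_card, ← Nat.card_eq_fintype_card, hEcard, GaloisField.card q d hd0.ne'])
    refine ⟨GaloisField q d, inferInstance, inferInstance, ev.symm.trans ε.toAddEquiv, fun g => ?_⟩
    obtain ⟨y, hy⟩ := hsurj (Φ g v0)
    refine ⟨ε y, (ε.symm.trans (θ g).toRingEquiv).trans ε, fun v => ?_⟩
    obtain ⟨x, rfl⟩ := ev.surjective v
    have hkey : ρ g (ev x) = ev (θ g x * y) := by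
      show Φ g ((x : Module.End (ZMod q) V) v0) = ((Φ g * (x : Module.End (ZMod q) V) * Φ g⁻¹) * (y : Module.End (ZMod q) V)) v0
      rw [Module.End.mul_apply (Φ g * (x : Module.End (ZMod q) V) * Φ g⁻¹), hy, ← Module.End.mul_apply, ← Module.End.mul_apply,
        mul_assoc _ (Φ g⁻¹), ← map_mul, inv_mul_cancel, map_one, mul_one]
    simp only [AddEquiv.trans_apply, hkey, AddEquiv.symm_apply_apply, RingEquiv.toAddEquiv_eq_coe,
      RingEquiv.coe_toAddEquiv, RingEquiv.trans_apply, map_mul, RingEquiv.symm_apply_apply]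
    rw [mul_comm]
    rfl

end Cfsg.Agent.Nearfield
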