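import Cfsg.Agent.Lib.Frobenius.Structure
import Cfsg.Agent.Lib.PGroup.UniqueOrderP
import Mathlib.GroupTheory.Nilpotent

/-! Solvable groups with cyclic subgroups of order `pq`: a maximal normal abelian subgroup that is not
self-centralizing comes with a normal quaternion group of order eight. -/

set_option autoImplicit false
set_option linter.style.haveILetI false

namespace Cfsg.Agent.Nearfield

open Subgroup Frobenius

variable {G : Type*} [Group G] [Finite G]

theorem quaternion_class_two {k : ℕ} (hk : k ≠ 1)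
    (h : ∀ x y : QuaternionGroup (2 ^ k), ∀ w, (x * y * x⁻¹ * y⁻¹) * w = w * (x * y * x⁻¹ * y⁻¹)) :
    ∀ x y : QuaternionGroup (2 ^ k), x * y = y * x := by
  rcases Nat.lt_or_ge k 1 with h0 | h1
  · obtain rfl : k = 0 := by omega
    decide
  exfalso
  have hk2 : 2 ≤ k := by omega
  have := h (.a 1) (.xa 0) (.xa 0)
  rw [show (QuaternionGroup.a 1 : QuaternionGroup (2 ^ k))⁻¹ = .a (-1) from rfl,
    show (QuaternionGroup.xa 0 : QuaternionGroup (2 ^ k))⁻¹ = .xa (((2 ^ k : ℕ) : ZMod (2 * 2 ^ k)) + 0) from rfl] at this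
  simp only [QuaternionGroup.a_mul_xa, QuaternionGroup.xa_mul_a,
    QuaternionGroup.xa_mul_xa, QuaternionGroup.a_mul_a] at this
  rw [QuaternionGroup.xa.injEq] at this
  have hn : ((2 ^ k : ℕ) : ZMod (2 * 2 ^ k)) + ((2 ^ k : ℕ) : ZMod (2 * 2 ^ k)) = 0 := by
    rw [← Nat.cast_add, ← two_mul, ZMod.natCast_self]
  have h4 : ((4 : ℕ) : ZMod (2 * 2 ^ k)) = 0 := by
    push_cast at this hn ⊢
    grind
  have h5 := (ZMod.natCast_eq_zero_iff 4 (2 * 2 ^ k)).mp h4
  have h6 : 2 * 2 ^ 2 ≤ 2 * 2 ^ k := Nat.mul_le_mul_left _ (Nat.pow_le_pow_right (by norm_num) hk2)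
  have := Nat.le_of_dvd (by norm_num) h5
  omega

/-- A normal subgroup above `A`, centralizing it, gives a normal quaternion subgroup. -/
theorem exists_quat (h : SmallCyclic G) [Group.IsSolvable G] (A : Subgroup G) [A.Normal]
    (hA : ∀ a ∈ A, ∀ b ∈ A, a * b = b * a)
    (hmax : ∀ B : Subgroup G, B.Normal → (∀ a ∈ B, ∀ b ∈ B, a * b = b * a) → A ≤ B → B = A)
    (K : Subgroup G) [K.Normal] (hAK : A < K) (hK : K ≤ centralizer (A : Set G)) :
    ∃ T : Subgroup G, T.Normal ∧ T ≤ K ∧ Nonempty (T ≃* QuaternionGroup 2) := by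
  classical
  obtain ⟨N, ⟨hNn, hAN, hNK⟩, hmin⟩ := (wellFounded_lt (α := Subgroup G)).has_min
    {N : Subgroup G | N.Normal ∧ A < N ∧ N ≤ K} ⟨K, ‹K.Normal›, hAK, le_rfl⟩
  haveI := hNn
  have hcomm : ⁅N, N⁆ ≤ A := by
    by_contra hc
    set L := ⁅N, N⁆ ⊔ A
    have hLN : L = N := by
      have hle : L ≤ N := sup_le (commutator_le_right N N) hAN.le
      refine hle.eq_of_not_lt fun hlt => hmin L ⟨inferInstance, lt_of_le_of_ne le_sup_right fun e => hc ?_,
        hle.trans hNK⟩ hlt
      exact le_sup_left.trans e.ge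
    let π := QuotientGroup.mk' A
    have hperf : ⁅N.map π, N.map π⁆ = N.map π := by
      conv_rhs => rw [← hLN]
      rw [Subgroup.map_sup, map_commutator, (Subgroup.map_eq_bot_iff A).mpr (QuotientGroup.ker_mk' A).ge, sup_bot_eq]
    have hsolv : ∀ n, N.map π ≤ derivedSeries (G ⧸ A) n := by
      intro n
      induction n with
      | zero => exact le_top
      | succ n ih => rw [derivedSeries_succ, ← hperf]; exact commutator_mono ih ih
    obtain ⟨n, hn⟩ := (Group.isSolvable_def (G ⧸ A)).mp inferInstance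
    have := hsolv n
    rw [hn, le_bot_iff, Subgroup.map_eq_bot_iff, QuotientGroup.ker_mk'] at this
    exact hAN.not_ge this
  have hcent : ∀ x ∈ N, ∀ y ∈ N, ∀ w ∈ N, (x * y * x⁻¹ * y⁻¹) * w = w * (x * y * x⁻¹ * y⁻¹) := by
    intro x hx y hy w hw
    exact mem_centralizer_iff.mp (hK (hNK hw)) _ (hcomm (commutator_mem_commutator hx hy))
  haveI hnil : Group.IsNilpotent N := by
    haveI : Group.IsNilpotent (Abelianization N) := inferInstance
    refine Subgroup.isNilpotent_of_ker_le_center (Abelianization.of (G := N)) ?_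
    rw [Abelianization.ker_of, commutator_def, commutator_le]
    intro x _ y _
    exact mem_center_iff.mpr fun w => Subtype.ext (hcent x x.2 y y.2 w w.2).symm
  have hnorm : ∀ {p : ℕ} [Fact p.Prime] (P : Sylow p N), (P : Subgroup N).Normal := fun P =>
    P.normal_of_normalizerCondition Group.normalizerCondition_of_isNilpotent
  have hNc : ¬ ∀ a ∈ N, ∀ b ∈ N, a * b = b * a := fun hc => hAN.ne (hmax N hNn hc hAN.le).symm
  obtain ⟨p, hp, P, hPc⟩ : ∃ (p : ℕ) (_ : Fact p.Prime) (P : Sylow p N), ¬ ∀ x y : P, x * y = y * x := by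
    by_contra hcon
    push Not at hcon
    apply hNc
    intro a ha b hb
    let e := Sylow.directProductOfNormal (G := N) hnorm
    obtain ⟨u, hu⟩ := e.surjective ⟨a, ha⟩
    obtain ⟨v, hv⟩ := e.surjective ⟨b, hb⟩
    have huv : u * v = v * u := by
      funext r P'
      haveI : Fact (r : ℕ).Prime := ⟨Nat.prime_of_mem_primeFactors r.2⟩
      exact hcon r inferInstance P' _ _
    have h' := congrArg e huv
    rw [map_mul, map_mul, hu, hv] at h'
    exact congrArg Subtype.val h'
  haveI := hp
  have hNS : SmallCyclic N := h.of_injective N.subtype_injective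
  obtain rfl : p = 2 := by
    by_contra hp2
    haveI := hNS.isCyclic_sylow hp2 P
    exact hPc fun x y => (IsCyclic.isMulCommutative (α := P)).is_comm.comm x y
  have huniq : ∀ x y : P, orderOf x = 2 → y ^ 2 = 1 → y ∈ zpowers x := by
    intro x y hx hy
    by_cases hy1 : y = 1
    · subst hy1; exact one_mem _
    have he := hNS.eq_of_involution (s := (y : N)) (t := (x : N))
      (by rw [orderOf_coe]; exact orderOf_eq_prime hy hy1) (by rw [orderOf_coe]; exact hx)
    rw [Subtype.ext he]; exact mem_zpowers x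
  rcases PGroup.unique_order_p_cases P.isPGroup' huniq with hcyc | ⟨-, k, ⟨e⟩⟩
  · exact absurd (fun x y : P => (IsCyclic.isMulCommutative (α := P)).is_comm.comm x y) hPc
  have hk : k = 1 := by
    by_contra hk
    refine hPc fun x y => e.injective ?_
    rw [map_mul, map_mul]
    refine quaternion_class_two hk (fun u v w => ?_) _ _
    obtain ⟨u, rfl⟩ := e.surjective u
    obtain ⟨v, rfl⟩ := e.surjective v
    obtain ⟨w, rfl⟩ := e.surjective w
    simp only [← map_mul, ← map_inv]
    refine congrArg e (Subtype.ext (Subtype.ext ?_))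
    exact hcent _ (u : N).2 _ (v : N).2 _ (w : N).2
  subst hk
  haveI : (P : Subgroup N).Characteristic := P.characteristic_of_normal (hnorm P)
  exact ⟨(P : Subgroup N).map N.subtype, ConjAct.normal_of_characteristic_of_normal,
    (map_subtype_le _).trans hNK, ⟨((P : Subgroup N).equivMapOfInjective _ N.subtype_injective).symm.trans e⟩⟩

/-- Representatives of the three cyclic subgroups of order four. -/
def gen4 : Fin 3 → QuaternionGroup 2 := ![.a 1, .xa 0, .xa 1]

theorem gen4_spec : (∀ x : QuaternionGroup 2, x * x ≠ 1 → ∃ i, x = gen4 i ∨ x = (gen4 i)⁻¹) ∧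
    (∀ i, gen4 i * gen4 i ≠ 1) ∧ (∀ i j, i ≠ j → gen4 i * gen4 j ≠ gen4 j * gen4 i) := by
  unfold gen4; decide +kernel

theorem quat_facts : (∀ x : QuaternionGroup 2, (∀ y, x * y = y * x) → x * x = 1) ∧
    (∀ x : QuaternionGroup 2, x * x ≠ 1 → x * x = .a 2) ∧ ((.a 2 : QuaternionGroup 2) * .a 2 = 1) ∧
    ((.a 2 : QuaternionGroup 2) ≠ 1) ∧ (∀ x : QuaternionGroup 2, (∀ y, x * y = y * x) → x = 1 ∨ x = .a 2) := by
  decide +kernel

/-- The exceptional configuration. -/
theorem exists_exceptional (h : SmallCyclic G) [Group.IsSolvable G] (A : Subgroup G) [A.Normal]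
    (hA : ∀ a ∈ A, ∀ b ∈ A, a * b = b * a)
    (hmax : ∀ B : Subgroup G, B.Normal → (∀ a ∈ B, ∀ b ∈ B, a * b = b * a) → A ≤ B → B = A)
    (hne : centralizer (A : Set G) ≠ A) :
    ∃ T : Subgroup G, T.Normal ∧ T ≤ centralizer (A : Set G) ∧ Nonempty (T ≃* QuaternionGroup 2) ∧
      centralizer (A : Set G) ⊓ centralizer (T : Set G) = A ∧ 3 ∣ A.index ∧
      (∃ c, Odd c ∧ Nat.card A = 2 * c) := by
  classical
  haveI : Fact (Nat.Prime 2) := ⟨Nat.prime_two⟩
  have hAC : A ≤ centralizer (A : Set G) := fun a ha => mem_centralizer_iff.mpr fun b hb => hA b hb a ha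
  obtain ⟨T, hTn, hTC, ⟨e⟩⟩ := exists_quat h A hA hmax (centralizer (A : Set G)) (lt_of_le_of_ne hAC hne.symm) le_rfl
  haveI := hTn
  obtain ⟨qcen, qsq, qz2, qz1, qcen'⟩ := quat_facts
  set z : G := ((e.symm (.a 2) : T) : G)
  have hzT : z ∈ T := (e.symm (.a 2)).2
  have hz2 : orderOf z = 2 := by
    have h0 : orderOf (e.symm (.a 2) : T) = 2 := by
      rw [MulEquiv.orderOf_eq, orderOf_eq_prime (by rw [pow_two, qz2]) qz1]
    rwa [← Subgroup.orderOf_coe] at h0
  have htsq : ∀ t : T, t * t ≠ 1 → (t : G) * t = z := by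
    intro t ht
    have : e (t * t) = .a 2 := by
      rw [map_mul]; exact qsq _ fun h1 => ht (e.injective (by rw [map_mul, h1, map_one]))
    show ((t * t : T) : G) = z
    rw [show t * t = e.symm (.a 2) by rw [← this, e.symm_apply_apply]]
  have hzc : ∀ g : G, g * z = z * g := fun g => mul_inv_eq_iff_eq_mul.mp
    (h.eq_of_involution (by rw [← MulAut.conj_apply, MulEquiv.orderOf_eq, hz2]) hz2)
  -- an element commuting with `T` whose square is `z` does not exist
  have hno : ∀ b : G, (∀ t ∈ T, t * b = b * t) → b * b ≠ z := by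
    intro b hb hbz
    set a : T := e.symm (.a 1)
    have ha : a * a ≠ 1 := fun h1 => by
      have := congrArg e h1
      rw [map_mul, map_one, e.apply_symm_apply] at this
      exact absurd this (by decide +kernel)
    have hab : ((a : G) * b) * ((a : G) * b) = 1 := by
      calc ((a : G) * b) * ((a : G) * b) = (a : G) * (b * a) * b := by group
        _ = ((a : G) * a) * (b * b) := by rw [← hb a a.2]; group
        _ = 1 := by rw [htsq a ha, hbz, ← pow_two, ← hz2, pow_orderOf_eq_one]
    have hbT : b ∈ T := by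
      have hab' : (a : G) * b ∈ T := by
        by_cases h1 : (a : G) * b = 1
        · rw [h1]; exact one_mem T
        · rw [h.eq_of_involution (orderOf_eq_prime (by rw [pow_two, hab]) h1) hz2]; exact hzT
      exact (T.mul_mem_cancel_left a.2).mp hab'
    have h2 := qcen (e ⟨b, hbT⟩) (fun y => by
      obtain ⟨y, rfl⟩ := e.surjective y
      rw [← map_mul, ← map_mul]
      exact congrArg e (Subtype.ext (hb y y.2).symm))
    rw [← map_mul] at h2
    have h3 : (⟨b, hbT⟩ : T) * ⟨b, hbT⟩ = 1 := e.injective (h2.trans (map_one e).symm)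
    have h4 : b * b = 1 := congrArg Subtype.val h3
    rw [h4] at hbz
    rw [← hbz, orderOf_one] at hz2
    omega
  have hAT : A ≤ centralizer (T : Set G) := fun a ha => mem_centralizer_iff.mpr fun t ht =>
    (mem_centralizer_iff.mp (hTC ht) a ha).symm
  haveI hKn : (centralizer (A : Set G) ⊓ centralizer (T : Set G)).Normal := inferInstance
  have hker : centralizer (A : Set G) ⊓ centralizer (T : Set G) = A := by
    refine le_antisymm ?_ (le_inf hAC hAT)
    by_contra hc
    obtain ⟨T', -, hT'K, ⟨e'⟩⟩ := exists_quat h A hA hmax _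
      (lt_of_le_of_ne (le_inf hAC hAT) (fun e0 => hc e0.ge)) inf_le_left
    set b : T' := e'.symm (.a 1)
    refine hno b (fun t ht => mem_centralizer_iff.mp (hT'K b.2).2 t ht) ?_
    have hbb : ((b * b : T') : G) ≠ 1 := fun h1 => by
      have := congrArg e' (show b * b = 1 from Subtype.ext h1)
      rw [map_mul, map_one, e'.apply_symm_apply] at this
      exact absurd this (by decide +kernel)
    refine h.eq_of_involution (orderOf_eq_prime ?_ hbb) hz2
    have : (b * b) * (b * b) = 1 := e'.injective (by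
      rw [map_mul, map_mul, map_one, e'.apply_symm_apply]; decide +kernel)
    rw [pow_two]
    exact congrArg Subtype.val this
  refine ⟨T, hTn, hTC, ⟨e⟩, hker, ?_, ?_⟩
  · -- the three cyclic subgroups of order four are permuted transitively
    obtain ⟨g1, g2, g3⟩ := gen4_spec
    let u : Fin 3 → G := fun i => ((e.symm (gen4 i) : T) : G)
    have huT : ∀ i, u i ∈ T := fun i => (e.symm (gen4 i)).2
    have huu : ∀ i, u i * u i ≠ 1 := fun i h1 => g2 i (by
      have h2 : e.symm (gen4 i) * e.symm (gen4 i) = 1 := Subtype.ext h1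
      rw [← map_mul] at h2
      exact e.symm.injective (h2.trans (map_one _).symm))
    have huinj : ∀ i j, u i ∈ zpowers (u j) → i = j := by
      intro i j hij
      by_contra hne'
      obtain ⟨n, hn⟩ := mem_zpowers_iff.mp hij
      refine g3 i j hne' (e.symm.injective (Subtype.ext ?_))
      rw [map_mul, map_mul]
      show u i * u j = u j * u i
      rw [← hn]; exact ((Commute.refl (u j)).zpow_left n).eq
    have hzp : ∀ t : G, t ∈ T → t * t ≠ 1 → ∃ i, zpowers t = zpowers (u i) := by
      intro t ht htt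
      obtain ⟨i, hi | hi⟩ := g1 (e ⟨t, ht⟩) (fun h1 => htt (by
        rw [← map_mul] at h1
        exact congrArg Subtype.val (e.injective (h1.trans (map_one e).symm))))
      · exact ⟨i, by rw [show t = u i by show t = ((e.symm (gen4 i) : T) : G); rw [← hi, e.symm_apply_apply]]⟩
      · exact ⟨i, by rw [show t = (u i)⁻¹ by
          show t = (((e.symm (gen4 i) : T) : G))⁻¹
          rw [← Subgroup.coe_inv, ← map_inv, ← hi, e.symm_apply_apply], zpowers_inv]⟩
    have hex : ∀ (g : G) (i : Fin 3), ∃ j, (zpowers (u i)).map (MulAut.conj g).toMonoidHom = zpowers (u j) := by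
      intro g i
      rw [MonoidHom.map_zpowers]
      refine hzp _ (hTn.conj_mem _ (huT i) g) fun h1 => huu i ?_
      have h2 : MulAut.conj g (u i) * MulAut.conj g (u i) = 1 := h1
      rw [← map_mul] at h2
      exact (MulAut.conj g).injective (h2.trans (map_one _).symm)
    choose π hπ using hex
    have hπu : ∀ g i j, (zpowers (u i)).map (MulAut.conj g).toMonoidHom = zpowers (u j) → π g i = j :=
      fun g i j hj => huinj _ _ (((hπ g i).symm.trans hj) ▸ mem_zpowers _)
    letI : MulAction G (Fin 3) :=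
      { smul := fun g i => π g i
        one_smul := fun i => hπu 1 i i (by rw [map_one]; exact map_id _)
        mul_smul := fun g k i => hπu (g * k) i _ (by
          rw [map_mul]
          refine (Subgroup.map_map (zpowers (u i)) (MulAut.conj g).toMonoidHom (MulAut.conj k).toMonoidHom).symm.trans ?_
          rw [hπ k i, hπ g (π k i)]
          rfl) }
    have hnofix : ∀ i : Fin 3, ∃ g : G, g • i ≠ i := by
      intro i
      by_contra hc
      push Not at hc
      haveI : (zpowers (u i)).Normal := ⟨fun x hx g => by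
        have h1 : (zpowers (u i)).map (MulAut.conj g).toMonoidHom = zpowers (u i) := by
          rw [hπ g i]; exact congrArg (fun j => zpowers (u j)) (hc g)
        rw [← h1]; exact ⟨x, hx, rfl⟩⟩
      have hcl : ∀ a ∈ A, ∀ y ∈ zpowers (u i), a * y = y * a := fun a ha y hy =>
        mem_centralizer_iff.mp (hTC ((zpowers_le.mpr (huT i)) hy)) a ha
      have hB : ∀ a ∈ A ⊔ zpowers (u i), ∀ b ∈ A ⊔ zpowers (u i), a * b = b * a := by
        intro a ha b hb
        rw [← SetLike.mem_coe, Subgroup.normal_mul] at ha hb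
        obtain ⟨a1, ha1, a2, ha2, rfl⟩ := ha
        obtain ⟨b1, hb1, b2, hb2, rfl⟩ := hb
        obtain ⟨m, rfl⟩ := mem_zpowers_iff.mp ha2
        obtain ⟨n, rfl⟩ := mem_zpowers_iff.mp hb2
        have c1 : Commute a1 b1 := hA a1 ha1 b1 hb1
        have c2 : Commute a1 (u i ^ n) := hcl a1 ha1 _ hb2
        have c3 : Commute b1 (u i ^ m) := hcl b1 hb1 _ ha2
        exact ((c1.mul_right c2).mul_left (c3.symm.mul_right (Commute.zpow_zpow_self _ _ _))).eq
      have hiA : u i ∈ A := (hmax _ inferInstance hB le_sup_left).le (mem_sup_right (mem_zpowers _))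
      refine huu i ?_
      have h2 := qcen (gen4 i) (fun y => e.symm.injective (Subtype.ext (by
        rw [map_mul, map_mul]
        exact (mem_centralizer_iff.mp (hAT hiA) _ (e.symm y).2).symm)))
      show ((e.symm (gen4 i) * e.symm (gen4 i) : T) : G) = 1
      rw [← map_mul, h2, map_one]; rfl
    have hpick : ∀ S : Finset (Fin 3), 0 ∈ S → S ≠ {0} → S ≠ Finset.univ → ∃ k, ∀ j, j ∉ S → j = k := by decide
    by_cases htr : ∀ j : Fin 3, j ∈ MulAction.orbit G (0 : Fin 3)
    · have h3 := MulAction.index_stabilizer G (0 : Fin 3)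
      rw [show MulAction.orbit G (0 : Fin 3) = Set.univ from Set.eq_univ_of_forall htr, Set.ncard_univ,
        Nat.card_fin] at h3
      refine h3 ▸ index_dvd_of_le (fun a ha => ?_)
      refine hπu a 0 0 ?_
      rw [MonoidHom.map_zpowers]
      refine congrArg zpowers ?_
      show a * u 0 * a⁻¹ = u 0
      rw [← mem_centralizer_iff.mp (hAT ha) _ (huT 0), mul_inv_cancel_right]
    · exfalso
      obtain ⟨g0, hg0⟩ := hnofix 0
      push Not at htr
      obtain ⟨k0, hk0⟩ := htr
      let S : Finset (Fin 3) := Finset.univ.filter (fun j => j ∈ MulAction.orbit G (0 : Fin 3))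
      have hS : ∀ j, j ∈ S ↔ j ∈ MulAction.orbit G (0 : Fin 3) := fun j => by simp [S]
      obtain ⟨k, hk⟩ := hpick S ((hS 0).mpr (MulAction.mem_orbit_self _))
        (fun h1 => hg0 (Finset.mem_singleton.mp (h1 ▸ (hS (g0 • 0)).mpr (MulAction.mem_orbit _ g0))))
        (fun h1 => hk0 ((hS k0).mp (h1 ▸ Finset.mem_univ k0)))
      obtain ⟨g, hg⟩ := hnofix k0
      refine hg ?_
      rw [hk k0 (fun h1 => hk0 ((hS k0).mp h1))]
      refine hk _ fun h1 => hk0 ?_
      obtain ⟨g', hg'⟩ := (hS _).mp h1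
      rw [hk k0 (fun h1 => hk0 ((hS k0).mp h1))]
      exact ⟨g⁻¹ * g', by show (g⁻¹ * g') • (0 : Fin 3) = k; rw [mul_smul, show g' • (0 : Fin 3) = g • k from hg', inv_smul_smul]⟩
  · haveI : IsMulCommutative A := ⟨⟨fun a b => Subtype.ext (hA a a.2 b b.2)⟩⟩
    haveI hAcyc : IsCyclic A := (h.of_injective A.subtype_injective).isCyclic_of_isMulCommutative
    have hzA : z ∈ A := hker ▸ (mem_inf.mpr ⟨mem_centralizer_iff.mpr fun a _ => hzc a,
      mem_centralizer_iff.mpr fun t _ => hzc t⟩)
    obtain ⟨c, hc⟩ : 2 ∣ Nat.card A := hz2 ▸ (Subgroup.orderOf_mk z hzA ▸ orderOf_dvd_natCard (⟨z, hzA⟩ : A))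
    refine ⟨c, Nat.not_even_iff_odd.mp fun ⟨d, hd⟩ => ?_, hc⟩
    obtain ⟨x, hx⟩ := IsCyclic.exists_ofOrder_eq_natCard (α := A)
    have hd0 : d ≠ 0 := by
      rintro rfl
      have := Nat.card_pos (α := A)
      omega
    have h4 : orderOf ((x : G) ^ d) = 4 := by
      rw [orderOf_pow' _ hd0, Subgroup.orderOf_coe, hx, hc, hd, show 2 * (d + d) = d * 4 by ring,
        Nat.gcd_eq_right (Nat.dvd_mul_right d 4), Nat.mul_div_cancel_left _ (Nat.pos_of_ne_zero hd0)]
    refine hno ((x : G) ^ d) (fun t ht => mem_centralizer_iff.mp (hAT (pow_mem x.2 d)) t ht) ?_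
    rw [← pow_two]
    exact h.eq_of_involution (by rw [orderOf_pow' _ two_ne_zero, h4]; decide) hz2

end Cfsg.Agent.Nearfield
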