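import Cfsg.Agent.Lib.Nearfield.Algebra
import Cfsg.Agent.Lib.Nearfield.Structure
import Cfsg.Agent.Lib.TI.Hall
import Cfsg.Agent.Lib.Involution.IndexTwo
import Cfsg.Agent.Lib.FunctorControl.IndexP
import Cfsg.Agent.Lib.Transfer.QuaternionFusion
import Cfsg.Agent.S3742
import Cfsg.Agent.Lib.GLOrder.Basic

/-! Solvable regular linear groups. -/

set_option autoImplicit false
set_option linter.style.haveILetI false

namespace Cfsg.Agent.Nearfield

open Subgroup

variable {G : Type*} [Group G] [Finite G]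

/-- A self-centralizing cyclic normal subgroup and even order give a subgroup of index two. -/
theorem exists_index_two_of_self (heven : Even (Nat.card G)) (A : Subgroup G) [A.Normal] [IsCyclic A]
    (hself : centralizer (A : Set G) = A) : ∃ N : Subgroup G, N.Normal ∧ N.index = 2 := by
  haveI : Fact (Nat.Prime 2) := ⟨Nat.prime_two⟩
  have hcomm : commutator G ≤ A := by
    rw [commutator_def, commutator_le]
    intro x _ y _
    rw [← hself, mem_centralizer_iff]
    intro a ha
    obtain ⟨g, hg⟩ := IsCyclic.exists_generator (α := A)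
    have hpow : ∀ u : G, ∃ i : ℤ, ∀ b : A, u * (b : G) * u⁻¹ = ((b ^ i : A) : G) := by
      intro u
      obtain ⟨i, hi⟩ := mem_zpowers_iff.mp (hg ⟨u * g * u⁻¹, ‹A.Normal›.conj_mem _ g.2 u⟩)
      refine ⟨i, fun b => ?_⟩
      obtain ⟨n, rfl⟩ := mem_zpowers_iff.mp (hg b)
      rw [← zpow_mul, mul_comm, zpow_mul, hi, coe_zpow, coe_zpow, conj_zpow]
    obtain ⟨i, hi⟩ := hpow x
    obtain ⟨j, hj⟩ := hpow y
    have hxy : ∀ b : A, (x * y) * (b : G) * (x * y)⁻¹ = (y * x) * (b : G) * (y * x)⁻¹ := by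
      intro b
      calc (x * y) * (b : G) * (x * y)⁻¹ = x * (y * (b : G) * y⁻¹) * x⁻¹ := by group
        _ = (((b ^ j) ^ i : A) : G) := by rw [hj, hi]
        _ = (((b ^ i) ^ j : A) : G) := by rw [← zpow_mul, ← zpow_mul, mul_comm]
        _ = y * (x * (b : G) * x⁻¹) * y⁻¹ := by rw [hi, hj]
        _ = _ := by group
    have h1 := hxy ⟨(y * x)⁻¹ * a * (y * x), by
      simpa using ‹A.Normal›.conj_mem a ha (y * x)⁻¹⟩
    simp only at h1
    have h2 : (x * y) * ((y * x)⁻¹ * a * (y * x)) * (x * y)⁻¹ = a := by rw [h1]; group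
    show a * (x * y * x⁻¹ * y⁻¹) = x * y * x⁻¹ * y⁻¹ * a
    conv_lhs => rw [← h2]
    group
  by_cases hev : 2 ∣ A.index
  · exact FunctorControl.exists_index_of_dvd_abelianization (hev.trans (index_dvd_of_le hcomm))
  · obtain ⟨P⟩ : Nonempty (Sylow 2 G) := Sylow.nonempty
    have hPA : (P : Subgroup G) ≤ A := by
      intro x hx
      obtain ⟨k, hk⟩ := IsPGroup.iff_orderOf.1 P.isPGroup' ⟨x, hx⟩
      rw [orderOf_mk] at hk
      rw [← QuotientGroup.eq_one_iff (N := A), ← orderOf_eq_one_iff]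
      refine Nat.eq_one_of_dvd_coprimes ((Nat.prime_two.coprime_iff_not_dvd.mpr hev).pow_left k)
        (hk ▸ orderOf_map_dvd (QuotientGroup.mk' A) x) ?_
      rw [index_eq_card]; exact orderOf_dvd_natCard _
    haveI : IsCyclic (P : Subgroup G) := isCyclic_of_injective (inclusion hPA) (inclusion_injective hPA)
    obtain ⟨N, hN⟩ := Involution.exists_index_two heven P inferInstance
    exact ⟨N, normal_of_index_eq_two hN, hN⟩

theorem five_pow_bounds (d : ℕ) (hd : 1 ≤ d) : 5 * d ≤ 5 ^ d ∧ (3 ≤ d → 24 * d < 5 ^ d) := by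
  induction d, hd using Nat.le_induction with
  | base => omega
  | succ n hn ih =>
    rw [pow_succ]
    refine ⟨by omega, fun h => ?_⟩
    rcases Nat.lt_or_ge n 3 with h3 | h3
    · obtain rfl : n = 2 := by omega
      norm_num
    · have := ih.2 h3; omega

theorem numerics {q d m : ℕ} (hq : q.Prime) (hq5 : 5 ≤ q) (hd : 0 < d) (hm : 2 ≤ m)
    (h : (q ^ d) ^ m - 1 ∣ 24 * d * (q ^ d - 1)) :
    m = 2 ∧ d = 1 ∧ (q = 5 ∨ q = 7 ∨ q = 11 ∨ q = 23) := by
  obtain ⟨h5, h24⟩ := five_pow_bounds d hd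
  have hQ : 5 ^ d ≤ q ^ d := Nat.pow_le_pow_left hq5 d
  set Q := q ^ d with hQdef
  have hQ5 : 5 ≤ Q := by omega
  have hpos : 0 < 24 * d * (Q - 1) := by
    have : 0 < Q - 1 := by omega
    positivity
  have hm2 : m = 2 := by
    by_contra hm3
    have h3 : Q ^ 3 ≤ Q ^ m := Nat.pow_le_pow_right (by omega) (by omega)
    have hle : Q ^ m - 1 ≤ 24 * d * (Q - 1) := Nat.le_of_dvd hpos h
    have h25 : 25 * d ≤ Q * Q := by
      calc 25 * d ≤ 5 * (5 * d) := by omega
        _ ≤ Q * Q := Nat.mul_le_mul hQ5 (h5.trans hQ)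
    obtain ⟨R, hR⟩ : ∃ R, Q = R + 1 := ⟨Q - 1, by omega⟩
    rw [hR] at h3 hle h25 hQ5
    have e : (R + 1) ^ 3 = R * ((R + 1) * (R + 1) + R + 2) + 1 := by ring
    rw [show R + 1 - 1 = R from rfl] at hle
    have h4 : R * ((R + 1) * (R + 1) + R + 2) ≤ R * (24 * d) := by
      rw [mul_comm R (24 * d)]; omega
    have := Nat.le_of_mul_le_mul_left h4 (by omega)
    omega
  subst hm2
  have hdiv : Q + 1 ∣ 24 * d := by
    rw [show Q ^ 2 - 1 = (Q + 1) * (Q - 1) by rw [← Nat.sq_sub_sq, one_pow]] at h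
    exact Nat.dvd_of_mul_dvd_mul_right (by omega) h
  have hle := Nat.le_of_dvd (by positivity) hdiv
  have hd2 : d ≤ 2 := by
    by_contra hd3
    have := h24 (by omega)
    omega
  interval_cases d
  · rw [hQdef, pow_one] at hdiv hle
    have hq23 : q ≤ 23 := by omega
    refine ⟨rfl, rfl, ?_⟩
    interval_cases q <;> revert hq hdiv <;> decide
  · exfalso
    rw [hQdef] at hdiv hle
    have hq6 : q ≤ 6 := by nlinarith
    interval_cases q <;> revert hdiv <;> decide

theorem main {q : ℕ} [Fact q.Prime] {V : Type*} [AddCommGroup V] [Module (ZMod q) V] [Finite V] [Nontrivial V]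
    (hsol : Group.IsSolvable G)
    (ρ : G →* (V ≃ₗ[ZMod q] V)) (hρ : Function.Injective ρ)
    (htrans : ∀ v w : V, v ≠ 0 → w ≠ 0 → ∃ g : G, ρ g v = w)
    (hreg : ∀ v : V, v ≠ 0 → ∀ g : G, ρ g v = v → g = 1) :
    ((∃ (F : Type) (_ : Field F) (_ : Fintype F) (e : V ≃+ F),
        ∀ g : G, ∃ (a : F) (σ : F ≃+* F), ∀ v : V, e (ρ g v) = a * σ (e v)) ∨
      Nat.card V ∈ ({25, 49, 121, 529} : Set ℕ)) ∧
    (q ≠ 2 → (∃ N : Subgroup G, N.Normal ∧ N.index = 2) ∨
      (Nat.card V = 25 ∧ Nonempty (G ≃* Matrix.SpecialLinearGroup (Fin 2) (ZMod 3))) ∨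
      (Nat.card V = 121 ∧ Nonempty (G ≃* Matrix.SpecialLinearGroup (Fin 2) (ZMod 3) × Multiplicative (ZMod 5)))) := by
  classical
  have hq : q.Prime := Fact.out
  haveI := hsol
  obtain ⟨v0, hv0⟩ := exists_ne (0 : V)
  have hG : Nat.card G = Nat.card V - 1 := by
    let f : G → {v : V // v ≠ 0} := fun g => ⟨ρ g v0, fun h => hv0 ((ρ g).map_eq_zero_iff.mp h)⟩
    have hf : Function.Bijective f := by
      refine ⟨fun a b h => ?_, fun w => ?_⟩
      · have h1 : ρ (a⁻¹ * b) v0 = v0 := by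
          rw [map_mul, LinearEquiv.mul_apply, show ρ b v0 = ρ a v0 from (congrArg Subtype.val h).symm,
            ← LinearEquiv.mul_apply, ← map_mul, inv_mul_cancel, map_one]
          rfl
        exact inv_mul_eq_one.mp (hreg v0 hv0 _ h1)
      · obtain ⟨g, hg⟩ := htrans v0 w hv0 w.2
        exact ⟨g, Subtype.ext hg⟩
    haveI := Fintype.ofFinite V
    rw [Nat.card_congr (Equiv.ofBijective f hf), Nat.card_eq_fintype_card, Nat.card_eq_fintype_card,
      Fintype.card_subtype_compl, Fintype.card_subtype_eq]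
  obtain ⟨n, hVn⟩ : ∃ n, Nat.card V = q ^ n := by
    refine ⟨Module.finrank (ZMod q) V, ?_⟩
    rw [Module.natCard_eq_pow_finrank (K := ZMod q) (V := V), Nat.card_zmod]
  have hcop : (Nat.card G).Coprime (Nat.card V) := by
    rw [hG]
    have : 0 < Nat.card V := Nat.card_pos
    rcases Nat.exists_eq_succ_of_ne_zero this.ne' with ⟨k, hk⟩
    rw [hk]
    simp
  have h : Frobenius.SmallCyclic G := by
    let φ : G →* MulAut (Multiplicative V) :=
      { toFun := fun g => AddEquiv.toMultiplicative (ρ g).toAddEquiv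
        map_one' := by ext x; simp
        map_mul' := fun a b => by ext x; simp }
    refine TI.smallCyclic_of_fpf_aut φ hcop fun a ha v hv => ?_
    by_contra hne
    exact ha (hreg (Multiplicative.toAdd v) hne a hv)
  obtain ⟨A, -, hAmax⟩ := Finite.exists_le_maximal (α := Subgroup G)
    (p := fun A => A.Normal ∧ ∀ x ∈ A, ∀ y ∈ A, x * y = y * x) (a := ⊥)
    ⟨inferInstance, fun x hx y hy => by rw [mem_bot.mp hx, mem_bot.mp hy]⟩
  obtain ⟨hAn, hA⟩ := hAmax.prop
  haveI := hAn
  haveI : IsMulCommutative A := ⟨⟨fun a b => Subtype.ext (hA a a.2 b b.2)⟩⟩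
  haveI hAcyc : IsCyclic A := (h.of_injective A.subtype_injective).isCyclic_of_isMulCommutative
  have hmax : ∀ B : Subgroup G, B.Normal → (∀ a ∈ B, ∀ b ∈ B, a * b = b * a) → A ≤ B → B = A :=
    fun B hB hBc hAB => le_antisymm (hAmax.2 ⟨hB, hBc⟩ hAB) hAB
  obtain ⟨d, m, hd, hm, hVdm, hAdvd, hidx, -, -, hone⟩ := exists_degree ρ hρ htrans A hA
  have hQ : d < q ^ d := Nat.lt_pow_self hq.one_lt
  set Q := q ^ d with hQdef
  have hcardG : Nat.card G = (centralizer (A : Set G)).index * Nat.card (centralizer (A : Set G)) := by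
    rw [mul_comm, card_mul_index]
  by_cases hself : centralizer (A : Set G) = A
  · have hm1 : m = 1 := by
      by_contra hm1
      have h2 : Q ^ 2 ≤ Q ^ m := Nat.pow_le_pow_right (by omega) (by omega)
      have hA1 : 0 < Q - 1 := by omega
      have hle : Nat.card G ≤ d * (Q - 1) := by
        rw [hcardG]
        exact Nat.mul_le_mul (Nat.le_of_dvd hd hidx) ((congrArg (fun K : Subgroup G => Nat.card K) hself).le.trans
          (Nat.le_of_dvd hA1 hAdvd))
      rw [hG, hVdm] at hle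
      have h3 : (Q + 1) * (Q - 1) ≤ d * (Q - 1) := by
        rw [show (Q + 1) * (Q - 1) = Q ^ 2 - 1 by rw [← Nat.sq_sub_sq, one_pow]]
        omega
      have := Nat.le_of_mul_le_mul_right h3 hA1
      omega
    refine ⟨Or.inl (hone hm1).2, fun hq2 => Or.inl (exists_index_two_of_self ?_ A hself)⟩
    rw [hG, hVn]
    exact Nat.Odd.sub_odd ((hq.odd_of_ne_two hq2).pow) odd_one
  obtain ⟨T, hTn, hTC, ⟨e⟩, hker, h3, c, hc, hAc⟩ := exists_exceptional h A hA hmax hself
  haveI := hTn
  have hm2 : 2 ≤ m := by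
    by_contra hm2
    have hcm := (hone (by omega)).1
    have h2 := congrArg e (Subtype.ext (hcm _ (hTC (e.symm (.a 1)).2) _ (hTC (e.symm (.xa 0)).2)) :
      e.symm (.a 1) * e.symm (.xa 0) = e.symm (.xa 0) * e.symm (.a 1))
    rw [map_mul, map_mul, e.apply_symm_apply, e.apply_symm_apply] at h2
    exact absurd h2 (by decide +kernel)
  -- the image in the automorphism group of `T`
  obtain ⟨e4⟩ := Cfsg.Agent.S3742.result
  let ψ : G →* Equiv.Perm (Fin 4) :=
    ((MulAut.congr e).trans e4).toMonoidHom.comp ((MulAut.conjNormal (H := T) : G →* MulAut T))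
  have hψker : ψ.ker = centralizer (T : Set G) := by
    ext g
    rw [MonoidHom.mem_ker, mem_centralizer_iff]
    constructor
    · intro hg t ht
      have h1 : MulAut.conjNormal (H := T) g = 1 :=
        ((MulAut.congr e).trans e4).injective (hg.trans (map_one _).symm)
      have h2 := congrArg (fun f : MulAut T => ((f ⟨t, ht⟩ : T) : G)) h1
      simp only [MulAut.conjNormal_apply, MulAut.one_apply] at h2
      exact (mul_inv_eq_iff_eq_mul.mp h2).symm
    · intro hg
      show ((MulAut.congr e).trans e4) _ = 1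
      rw [show MulAut.conjNormal (H := T) g = 1 from MulEquiv.ext fun t => Subtype.ext (by
        rw [MulAut.conjNormal_apply, MulAut.one_apply, ← hg t t.2, mul_inv_cancel_right]), map_one]
  set χ := ψ.comp (centralizer (A : Set G)).subtype with hχ
  have hχker : χ.ker = A.subgroupOf (centralizer (A : Set G)) := by
    ext g
    rw [MonoidHom.mem_ker, hχ, MonoidHom.comp_apply, mem_subgroupOf, coe_subtype, ← MonoidHom.mem_ker, hψker]
    constructor
    · intro hg
      have h1 : (g : G) ∈ centralizer (A : Set G) ⊓ centralizer (T : Set G) := ⟨g.2, hg⟩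
      rwa [hker] at h1
    · intro hg
      have h1 : (g : G) ∈ centralizer (A : Set G) ⊓ centralizer (T : Set G) := hker.ge hg
      exact h1.2
  have hAC : A ≤ centralizer (A : Set G) := fun a ha => mem_centralizer_iff.mpr fun b hb => hA b hb a ha
  set j := Nat.card χ.range with hj
  have hC : Nat.card (centralizer (A : Set G)) = Nat.card A * j := by
    rw [hj, ← index_ker, hχker, ← Nat.card_congr (subgroupOfEquivOfLe hAC).toEquiv, card_mul_index]
  have hj24 : j ∣ 24 := by
    refine (card_subgroup_dvd_card _).trans (dvd_of_eq ?_)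
    rw [Nat.card_perm, Nat.card_fin]; rfl
  have hq2 : q ≠ 2 := by
    rintro rfl
    have h2 : 2 ∣ Q - 1 := (Dvd.intro c hAc.symm).trans hAdvd
    have h4 : 2 ∣ Q := dvd_pow_self 2 hd.ne'
    have := Nat.one_le_pow d 2 (by norm_num)
    omega
  have hq3 : q ≠ 3 := by
    rintro rfl
    have h1 : 3 ∣ Nat.card G := h3.trans (index_dvd_card _)
    rw [hG, hVdm] at h1
    have h4 : 3 ∣ Q ^ m := (dvd_pow_self 3 hd.ne').trans (dvd_pow_self Q (by omega))
    have := Nat.one_le_pow m Q (by omega)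
    omega
  have hq5 : 5 ≤ q := by
    have := hq.two_le
    rcases Nat.lt_or_ge q 5 with h5 | h5
    · interval_cases q
      · exact absurd rfl hq2
      · exact absurd rfl hq3
      · exact absurd hq (by decide)
    · exact h5
  have hdiv : Q ^ m - 1 ∣ 24 * d * (Q - 1) := by
    rw [← hVdm, ← hG, hcardG, hC, mul_comm (Nat.card A) j, ← mul_assoc, mul_comm 24 d]
    exact Nat.mul_dvd_mul (Nat.mul_dvd_mul hidx hj24) hAdvd
  obtain ⟨rfl, rfl, hqs⟩ := numerics hq hq5 hd hm2 hdiv
  rw [hQdef, pow_one] at hVdm hAdvd hQ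
  refine ⟨Or.inr (by rcases hqs with rfl | rfl | rfl | rfl <;> rw [hVdm] <;> norm_num), fun _ => ?_⟩
  have hCtop : centralizer (A : Set G) = ⊤ := index_eq_one.mp (Nat.dvd_one.mp hidx)
  have hGj : Nat.card G = Nat.card A * j := by rw [← hC, hCtop, card_top]
  have hAj : A.index = j := Nat.eq_of_mul_eq_mul_left Nat.card_pos ((card_mul_index A).trans hGj)
  rw [hAj] at h3
  have hcases : j = 24 ∨ (q = 5 ∧ Nat.card A = 2 ∧ j = 12) ∨ (q = 11 ∧ Nat.card A = 10 ∧ j = 12) := by
    rw [hG, hVdm, hAc] at hGj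
    rw [hAc] at hAdvd
    have hjle : j ≤ 24 := Nat.le_of_dvd (by norm_num) hj24
    have hcle : 2 * c ≤ q - 1 := Nat.le_of_dvd (by omega) hAdvd
    have hcodd : c % 2 = 1 := Nat.odd_iff.mp hc
    rw [hAc]
    rcases hqs with rfl | rfl | rfl | rfl
    all_goals
      have hc11 : c ≤ 11 := by omega
      interval_cases c <;> omega
  rcases hcases with h24 | hsmall
  · left
    have hsurj : Function.Surjective χ :=
      MonoidHom.range_eq_top.mp (eq_top_of_card_eq _ (by rw [← hj, h24, Nat.card_perm, Nat.card_fin]; rfl))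
    let s : G →* ℤˣ := Equiv.Perm.sign.comp ψ
    have hs : Function.Surjective s := by
      intro u
      obtain ⟨σ, hσ⟩ := Equiv.Perm.sign_surjective (Fin 4) u
      obtain ⟨g, hg⟩ := hsurj σ
      exact ⟨g, by show Equiv.Perm.sign (ψ g) = u; rw [show ψ g = σ from hg, hσ]⟩
    refine ⟨s.ker, inferInstance, ?_⟩
    rw [index_ker, MonoidHom.range_eq_top.mpr hs, card_top, Nat.card_eq_fintype_card]
    rfl
  right
  haveI : Fact (Nat.Prime 3) := ⟨Nat.prime_three⟩
  have h3G : 3 ∣ Nat.card G := hGj ▸ h3.mul_left _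
  obtain ⟨y, hy⟩ := exists_prime_orderOf_dvd_card' 3 h3G
  have hA10 : Nat.card A ∣ 10 := by
    rcases hsmall with ⟨-, h1, -⟩ | ⟨-, h1, -⟩ <;> rw [h1] <;> norm_num
  have hyT : y ∉ centralizer (T : Set G) := by
    intro hyT
    have hyA : y ∈ A := hker ▸ ⟨hCtop ▸ mem_top y, hyT⟩
    have := ((orderOf_mk y hyA).symm ▸ orderOf_dvd_natCard (⟨y, hyA⟩ : A)).trans hA10
    rw [hy] at this
    norm_num at this
  have hTcard : Nat.card T = 8 := by
    rw [Nat.card_congr e.toEquiv, Nat.card_eq_fintype_card, QuaternionGroup.card]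
  set G₁ := zpowers y ⊔ T with hG₁
  have hG₁card : Nat.card G₁ = 24 := by
    rw [hG₁, Frobenius.card_sup_of_disjoint (by rw [normalizer_eq_top]; exact le_top), Nat.card_zpowers, hy, hTcard]
    refine disjoint_iff.mpr (inf_eq_bot_of_coprime ?_)
    rw [Nat.card_zpowers, hy, hTcard]
    norm_num
  have hyG₁ : y ∈ G₁ := mem_sup_left (mem_zpowers y)
  have hTG₁ : T ≤ G₁ := le_sup_right
  obtain ⟨f⟩ : Nonempty (G₁ ≃* Matrix.SpecialLinearGroup (Fin 2) (ZMod 3)) := by
    let T₁ := T.subgroupOf G₁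
    obtain ⟨H, K, hKn, ⟨f⟩⟩ := Transfer.exists_slTwoThree_section (Q := T₁)
      ((subgroupOfEquivOfLe hTG₁).trans e) (y := ⟨y, hyG₁⟩)
      (by rw [normalizer_eq_top]; exact mem_top _)
      (by rw [orderOf_mk, hy]; norm_num)
      (fun hc' => hyT (mem_centralizer_iff.mpr fun t ht =>
        congrArg Subtype.val (mem_centralizer_iff.mp hc' ⟨t, hTG₁ ht⟩ ht)))
    haveI := hKn
    have hSL : Nat.card (Matrix.SpecialLinearGroup (Fin 2) (ZMod 3)) = 24 := by
      rw [GLOrder.card_SL_two, Nat.card_zmod]; rfl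
    have hcardq : (K.subgroupOf H).index = 24 := by rw [index_eq_card, Nat.card_congr f.toEquiv, hSL]
    have h1 := (K.subgroupOf H).card_mul_index
    have h2 : Nat.card H ≤ 24 := hG₁card ▸ card_le_card_group H
    rw [hcardq] at h1
    have hK1 : Nat.card (K.subgroupOf H) = 1 := by
      have : 0 < Nat.card (K.subgroupOf H) := Nat.card_pos
      omega
    have hH : H = ⊤ := eq_top_of_card_eq H (by rw [hG₁card]; omega)
    have hbot : K.subgroupOf H = ⊥ := eq_bot_of_card_eq _ hK1
    exact ⟨(topEquiv.symm.trans (MulEquiv.subgroupCongr hH.symm)).trans ((QuotientGroup.quotientBot.symm.trans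
      (QuotientGroup.quotientMulEquivOfEq hbot.symm)).trans f)⟩
  rcases hsmall with ⟨rfl, hA2, -⟩ | ⟨rfl, hA2, -⟩
  · refine Or.inl ⟨by rw [hVdm]; norm_num, ⟨?_⟩⟩
    have htop : G₁ = ⊤ := eq_top_of_card_eq _ (by rw [hG₁card, hG, hVdm]; norm_num)
    exact (topEquiv.symm.trans (MulEquiv.subgroupCongr htop.symm)).trans f
  · refine Or.inr ⟨by rw [hVdm]; norm_num, ?_⟩
    haveI : Fact (Nat.Prime 5) := ⟨by norm_num⟩
    obtain ⟨w, hw⟩ := exists_prime_orderOf_dvd_card' (G := A) 5 (by rw [hA2]; norm_num)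
    set W := zpowers (w : G)
    have hWc : Nat.card W = 5 := by rw [Nat.card_zpowers, orderOf_coe, hw]
    let F : G₁ × W →* G := MonoidHom.mk' (fun p => (p.1 : G) * (p.2 : G)) (fun p r => by
      have hcom : Commute (r.1 : G) (p.2 : G) := by
        obtain ⟨k, hk⟩ := mem_zpowers_iff.mp p.2.2
        rw [← hk]
        have hrA : (r.1 : G) ∈ centralizer (A : Set G) := hCtop ▸ mem_top _
        exact Commute.zpow_right (show Commute (r.1 : G) (w : G) from (mem_centralizer_iff.mp hrA _ w.2).symm) k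
      simp only [Prod.fst_mul, Prod.snd_mul, coe_mul]
      rw [mul_assoc, ← mul_assoc (r.1 : G), hcom.eq]
      simp only [mul_assoc])
    have hFinj : Function.Injective F := by
      rw [injective_iff_map_eq_one]
      rintro ⟨a, b⟩ hab
      have hab' : (a : G) * b = 1 := hab
      have hb : (b : G) ∈ G₁ ⊓ W := mem_inf.mpr ⟨by rw [eq_inv_of_mul_eq_one_right hab']; exact G₁.inv_mem a.2, b.2⟩
      rw [inf_eq_bot_of_coprime (by rw [hG₁card, hWc]; norm_num), mem_bot] at hb
      rw [hb, mul_one] at hab'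
      exact Prod.ext (Subtype.ext hab') (Subtype.ext hb)
    have hFbij := hFinj.bijective_of_nat_card_le (by rw [Nat.card_prod, hG₁card, hWc, hG, hVdm]; norm_num)
    haveI : IsCyclic W := isCyclic_of_prime_card hWc
    let eW : W ≃* Multiplicative (ZMod 5) :=
      mulEquivOfCyclicCardEq (by rw [hWc]; simp)
    exact ⟨(MulEquiv.ofBijective F hFbij).symm.trans (MulEquiv.prodCongr f eW)⟩

end Cfsg.Agent.Nearfield
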